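import Mathlib
import Cfsg.Agent.H439.Der.Tools
import Cfsg.Agent.H81.SaxSp
import Cfsg.Agent.ClassicalGeometry.SympInvolutions
import Cfsg.Agent.H379.P4.TwoElt
import Cfsg.Agent.Lib.FieldAutCard
import Cfsg.Agent.H343.WitCl_m3
import Cfsg.Agent.H901.SaxSpRow
import Cfsg.Agent.H264.FKS.Char
import Cfsg.Agent.H278.ElAsm
import Cfsg.Agent.H884.CxMain_m3
import Cfsg.Agent.H503.El.O73
import Cfsg.Agent.Prune
set_option linter.all false
prune_inst 0x7ffffdfffffa5ddfffff7e77aedcdffffabbffffacdff9cb7fe869ff2fdf6b12c9cd7b8d9feb33fe1ef64a3610ec7bc3fffffeffea6ffc7ffffdfff45ffbffdfffffbd0071978c340fbc6ff793f07f8e7f3fffffffffffffffffffffffffffbeffbfffffffff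
open scoped Cfsg.Agent.FastGrp

-- part: H388/Der/Eig
section
/-!
# Powers of a matrix of prime order that are semilinear images of it

`sub_one_le` : `A` of prime order `v` over a finite field `F`, every power `A ^ k`, `1 ≤ k < v`, conjugate to a Galois
image of `A`: then `v - 1 ≤ |Aut F| * dim`.
-/

set_option autoImplicit false

namespace Cfsg.Agent.H388.Der

open Polynomial

theorem exists_eig {Ω : Type*} [Field Ω] [IsAlgClosed Ω] {ι : Type*} [Fintype ι] [DecidableEq ι] {v : ℕ}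
    (hv : (v : Ω) ≠ 0) {A : Matrix ι ι Ω} (hA : A ^ v = 1) (h1 : A ≠ 1) :
    ∃ l ∈ spectrum Ω A, l ^ v = 1 ∧ l ≠ 1 := by
  have hnt : Nontrivial (Matrix ι ι Ω) := ⟨⟨A, 1, h1⟩⟩
  set P : Polynomial Ω := ∑ i ∈ Finset.range v, X ^ i with hP
  have hPA : aeval A P * (A - 1) = 0 := by
    rw [hP, map_sum]
    simp only [map_pow, aeval_X]
    rw [geom_sum_mul, hA, sub_self]
  have h0 : (0 : Ω) ∈ spectrum Ω (aeval A P) := by
    rw [spectrum.zero_mem_iff]
    intro hu
    apply h1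
    have h2 := (hu.mul_right_eq_zero).1 hPA
    exact sub_eq_zero.1 h2
  have hne : (spectrum Ω A).Nonempty := spectrum.nonempty_of_isAlgClosed_of_finiteDimensional Ω A
  rw [spectrum.map_polynomial_aeval_of_nonempty A P hne] at h0
  obtain ⟨l, hl, hl0⟩ := h0
  have hl0' : ∑ i ∈ Finset.range v, l ^ i = 0 := by
    have : eval l P = 0 := hl0
    rw [hP, eval_finset_sum] at this
    simpa using this
  refine ⟨l, hl, ?_, ?_⟩
  · have h3 := geom_sum_mul l v
    rw [hl0', zero_mul] at h3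
    exact sub_eq_zero.1 h3.symm
  · rintro rfl
    apply hv
    simpa using hl0'

theorem sub_one_le {F : Type*} [Field F] [Finite F] {ι : Type*} [Fintype ι] [DecidableEq ι] {v : ℕ} (hv : v.Prime)
    (hvF : (v : F) ≠ 0) {A : Matrix ι ι F} (hA : A ^ v = 1) (h1 : A ≠ 1)
    (h : ∀ k, 1 ≤ k → k < v → ∃ (B C : Matrix ι ι F) (σ : F ≃+* F), B * C = 1 ∧ A ^ k = B * A.map σ * C) :
    v - 1 ≤ Nat.card (F ≃+* F) * Fintype.card ι := by
  classical
  let Ω := AlgebraicClosure F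
  let f : F →+* Ω := algebraMap F Ω
  have hfin : Finite (F ≃+* F) := Finite.of_injective (fun f : F ≃+* F => (f : F → F)) DFunLike.coe_injective
  have hfA : (A.map f) ^ v = 1 := by
    rw [← Matrix.map_pow, hA]
    exact Matrix.map_one f (map_zero f) (map_one f)
  have hf1 : A.map f ≠ 1 := by
    intro h2
    apply h1
    have h3 : A.map f = (1 : Matrix ι ι F).map f := by
      rw [h2]; exact (Matrix.map_one f (map_zero f) (map_one f)).symm
    exact Matrix.map_injective f.injective h3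
  have hvΩ : ((v : ℕ) : Ω) ≠ 0 := by
    intro h2
    apply hvF
    apply f.injective
    rw [map_natCast, map_zero]
    exact h2
  obtain ⟨l, hl, hlv, hl1⟩ := exists_eig hvΩ hfA hf1
  have hol : orderOf l = v := by
    rcases (Nat.dvd_prime hv).1 (orderOf_dvd_of_pow_eq_one hlv) with h2 | h2
    · exact absurd (orderOf_eq_one_iff.1 h2) hl1
    · exact h2
  let ext : (F ≃+* F) → (Ω ≃+* Ω) := fun σ => IsAlgClosure.equivOfEquiv Ω Ω σ
  have hext : ∀ (σ : F ≃+* F) (x : F), ext σ (f x) = f (σ x) := fun σ x => by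
    exact IsAlgClosure.equivOfEquiv_algebraMap Ω Ω σ x
  let S : Finset Ω := (A.map f).charpoly.roots.toFinset
  have hne0 : (A.map f).charpoly ≠ 0 := (Matrix.charpoly_monic _).ne_zero
  have hS : S.card ≤ Fintype.card ι := by
    refine (Multiset.toFinset_card_le _).trans ((Polynomial.card_roots' _).trans ?_)
    rw [Matrix.charpoly_natDegree_eq_dim]
  have key : ∀ k, 1 ≤ k → k < v → ∃ σ : F ≃+* F, (ext σ).symm (l ^ k) ∈ S := by
    intro k hk1 hkv
    obtain ⟨B, C, σ, hBC, hk⟩ := h k hk1 hkv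
    refine ⟨σ, ?_⟩
    have h2 : l ^ k ∈ spectrum Ω ((A.map f) ^ k) := spectrum.pow_mem_pow _ _ hl
    have hCB : C * B = 1 := mul_eq_one_comm.1 hBC
    have h3 : (A.map f) ^ k = (B.map f) * ((A.map σ).map f) * (C.map f) := by
      rw [← Matrix.map_pow, hk, Matrix.map_mul, Matrix.map_mul]
    have hu1 : B.map f * C.map f = 1 := by
      rw [← Matrix.map_mul, hBC]; exact Matrix.map_one f (map_zero f) (map_one f)
    have hu2 : C.map f * B.map f = 1 := by
      rw [← Matrix.map_mul, hCB]; exact Matrix.map_one f (map_zero f) (map_one f)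
    let U : (Matrix ι ι Ω)ˣ := ⟨B.map f, C.map f, hu1, hu2⟩
    rw [h3, show (B.map f) * ((A.map σ).map f) * (C.map f) = (U : Matrix ι ι Ω) * ((A.map σ).map f) *
      ((U⁻¹ : (Matrix ι ι Ω)ˣ) : Matrix ι ι Ω) from rfl, spectrum.units_conjugate] at h2
    rw [Matrix.mem_spectrum_iff_isRoot_charpoly] at h2
    have h4 : (A.map σ).map f = (A.map f).map (ext σ : Ω →+* Ω) := by
      ext i j
      rw [Matrix.map_apply, Matrix.map_apply, Matrix.map_apply, Matrix.map_apply]
      exact (hext σ (A i j)).symm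
    rw [h4, Matrix.charpoly_map] at h2
    rw [Multiset.mem_toFinset, Polynomial.mem_roots hne0]
    have h5 : l ^ k = (ext σ : Ω →+* Ω) ((ext σ).symm (l ^ k)) := by
      show l ^ k = ext σ ((ext σ).symm (l ^ k))
      rw [RingEquiv.apply_symm_apply]
    rw [h5] at h2
    rw [Polynomial.IsRoot.def, Polynomial.eval_map, Polynomial.eval₂_hom] at h2
    have h6 : (ext σ : Ω →+* Ω) (eval ((ext σ).symm (l ^ k)) (A.map f).charpoly) = (ext σ : Ω →+* Ω) 0 := by
      rw [h2, map_zero]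
    exact (ext σ).injective h6
  have hkey : ∀ k : Fin (v - 1), ∃ σ : F ≃+* F, (ext σ).symm (l ^ ((k : ℕ) + 1)) ∈ S := fun k =>
    key _ (by omega) (by have := k.2; omega)
  choose σ hσ using hkey
  have hinj : Function.Injective (fun k : Fin (v - 1) =>
      ((σ k, (⟨(ext (σ k)).symm (l ^ ((k : ℕ) + 1)), hσ k⟩ : S)) : (F ≃+* F) × S)) := by
    intro a b hab
    simp only [Prod.mk.injEq, Subtype.mk.injEq] at hab
    obtain ⟨h2, h3⟩ := hab
    rw [h2] at h3
    have h4 := (ext (σ b)).symm.injective h3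
    have hl0 : l ≠ 0 := by
      rintro rfl
      rw [zero_pow hv.ne_zero] at hlv
      exact zero_ne_one hlv
    have h5 : ((a : ℕ) + 1) % v = ((b : ℕ) + 1) % v := by
      have hu : (Units.mk0 l hl0) ^ ((a : ℕ) + 1) = (Units.mk0 l hl0) ^ ((b : ℕ) + 1) := Units.ext (by
        rw [Units.val_pow_eq_pow_val, Units.val_pow_eq_pow_val]; exact h4)
      have := pow_inj_mod.1 hu
      rwa [← orderOf_units, Units.val_mk0, hol] at this
    have ha := a.2
    have hb := b.2
    rw [Nat.mod_eq_of_lt (by omega), Nat.mod_eq_of_lt (by omega)] at h5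
    exact Fin.ext (by omega)
  have h7 := Nat.card_le_card_of_injective _ hinj
  rw [Nat.card_eq_fintype_card, Fintype.card_fin, Nat.card_prod, Nat.card_eq_fintype_card (α := S), Fintype.card_coe] at h7
  exact h7.trans (Nat.mul_le_mul_left _ hS)

end Cfsg.Agent.H388.Der
end

-- part: H388/Der/Lift
section
/-!
# Elements of odd order of `PSp_{2m}(q)` and automorphisms
-/

set_option autoImplicit false

namespace Cfsg.Agent.H388.Der

open Cfsg Cfsg.Agent.H876

section

variable {F : Type} [Field F] {m : ℕ}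

theorem center_sq {z : Matrix.symplecticGroup (Fin m) F}
    (hz : z ∈ Subgroup.center (Matrix.symplecticGroup (Fin m) F)) : z ^ 2 = 1 := by
  apply Subtype.ext
  rw [SubmonoidClass.coe_pow]
  rcases Cfsg.Agent.ClassicalGeometry.SympInvolutions.center_eq hz with h | h
  · rw [h, one_pow]; rfl
  · rw [h, neg_one_sq]; rfl

/-- elements of odd order lift -/
theorem exists_lift {n : ℕ} (hn : Odd n) {x : PSp m F} (hx : x ^ n = 1) :
    ∃ A : Matrix.symplecticGroup (Fin m) F, (QuotientGroup.mk A : PSp m F) = x ∧ A ^ n = 1 := by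
  obtain ⟨A, rfl⟩ := QuotientGroup.mk_surjective x
  have h1 : A ^ n ∈ Subgroup.center (Matrix.symplecticGroup (Fin m) F) := by
    rw [← QuotientGroup.mk_pow] at hx
    exact (QuotientGroup.eq_one_iff _).1 hx
  refine ⟨A ^ (n + 1), ?_, ?_⟩
  · rw [QuotientGroup.mk_pow, pow_succ, hx, one_mul]
  · rw [← pow_mul, mul_comm, pow_mul]
    obtain ⟨k, hk⟩ := hn.add_one
    rw [hk, ← two_mul, pow_mul, center_sq h1, one_pow]

theorem lift_unique {n : ℕ} (hn : Odd n) {A B : Matrix.symplecticGroup (Fin m) F} (hA : A ^ n = 1) (hB : B ^ n = 1)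
    (h : (QuotientGroup.mk A : PSp m F) = QuotientGroup.mk B) : A = B := by
  have h1 : A⁻¹ * B ∈ Subgroup.center (Matrix.symplecticGroup (Fin m) F) := QuotientGroup.eq.1 h
  obtain ⟨z, hz⟩ : ∃ z, z = A⁻¹ * B := ⟨_, rfl⟩
  rw [← hz] at h1
  have h2 : B = A * z := by rw [hz, mul_inv_cancel_left]
  have h3 : Commute A z := Subgroup.mem_center_iff.1 h1 A
  have h4 : z ^ n = 1 := by
    rw [h2, h3.mul_pow, hA, one_mul] at hB
    exact hB
  obtain ⟨k, hk⟩ := hn
  rw [hk, pow_succ, pow_mul, center_sq h1, one_pow, one_mul] at h4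
  rw [h2, h4, mul_one]

/-- an automorphism on an element of odd order -/
theorem aut_odd [Finite F] (hm : 3 ≤ m) {n : ℕ} (hn : Odd n) (φ : PSp m F ≃* PSp m F)
    {A C : Matrix.symplecticGroup (Fin m) F} (hA : A ^ n = 1) (hC : C ^ n = 1)
    (h : φ (QuotientGroup.mk A) = QuotientGroup.mk C) :
    ∃ (B : GL (Fin m ⊕ Fin m) F) (σ : F ≃+* F),
      spToGL m F C = B * Matrix.GeneralLinearGroup.map (σ : F →+* F) (spToGL m F A) * B⁻¹ := by
  obtain ⟨B, σ, C', h1, h2⟩ := Cfsg.Agent.H81.SaxSp.aut_apply hm φ A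
  have h3 : C' ^ n = 1 := by
    apply Cfsg.Agent.H262.El.spToGL_injective
    rw [map_pow, h2, conj_pow, ← map_pow, ← map_pow, hA, map_one, map_one, mul_one, mul_inv_cancel]
  have h4 : C' = C := lift_unique hn h3 hC (h1.symm.trans h)
  exact ⟨B, σ, by rw [← h4, h2]⟩

end

end Cfsg.Agent.H388.Der
end

-- part: H388/Der/Nsc
section
/-!
# `NSC (PSp_{2m}(q))`, `m ≥ 3`, `(m, q) ≠ (3, 2)`
-/

set_option autoImplicit false

namespace Cfsg.Agent.H388.Der

open Cfsg Cfsg.Agent.H439.Der Cfsg.Agent.H377 Cfsg.Agent.H94.PG Cfsg.Agent.H876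

theorem not_SC_of_adj {G : Type*} [Group G] [Finite G] {a b : ℕ} (h : Adj G a b) : ¬ SC G a := by
  obtain ⟨ha, hb, hab, x, y, hx, hy, hc⟩ := h
  exact not_SC_of_commute ha hb hab hx hy hc

section

variable {F : Type} [Field F] {m : ℕ}

/-- the bound from the eigenvalues -/
theorem sc_bound [Finite F] (hm : 3 ≤ m) {v : ℕ} (hv : v.Prime) (hv2 : v ≠ 2) (hvF : (v : F) ≠ 0)
    (hd : v ∣ Nat.card (PSp m F)) (h : SC (PSp m F) v) : v - 1 ≤ Nat.card (F ≃+* F) * (2 * m) := by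
  have := Fact.mk hv
  have hvo : Odd v := hv.eq_two_or_odd'.resolve_left hv2
  haveI : Finite (Matrix.symplecticGroup (Fin m) F) :=
    Finite.of_injective (fun A => (A : Matrix (Fin m ⊕ Fin m) (Fin m ⊕ Fin m) F)) Subtype.val_injective
  haveI : Finite (PSp m F) := Quotient.finite _
  obtain ⟨x, hx⟩ := exists_prime_orderOf_dvd_card' v hd
  obtain ⟨A, hA, hAv⟩ := exists_lift hvo (by rw [← hx]; exact pow_orderOf_eq_one x)
  have hAm : (A : Matrix (Fin m ⊕ Fin m) (Fin m ⊕ Fin m) F) ^ v = 1 := by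
    rw [← SubmonoidClass.coe_pow, hAv]; rfl
  have hA1 : (A : Matrix (Fin m ⊕ Fin m) (Fin m ⊕ Fin m) F) ≠ 1 := by
    intro h1
    have h2 : A = 1 := Subtype.ext h1
    rw [h2, QuotientGroup.mk_one] at hA
    rw [← hA, orderOf_one] at hx
    exact hv.one_lt.ne hx
  have key := sub_one_le hv hvF hAm hA1 (fun k hk1 hkv => by
    have ho : orderOf (x ^ k) = v := by
      rw [Nat.Coprime.orderOf_pow, hx]
      rw [hx]
      exact (Nat.Prime.coprime_iff_not_dvd hv).2 fun h2 => by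
        have := Nat.le_of_dvd (by omega) h2
        omega
    obtain ⟨φ, hφ⟩ := h x (x ^ k) (by rw [hx]) (by rw [ho])
    have h2 : φ (QuotientGroup.mk A) = (QuotientGroup.mk (A ^ k) : PSp m F) := by
      rw [hA, hφ, QuotientGroup.mk_pow, hA]
    obtain ⟨B, σ, h3⟩ := aut_odd hm hvo φ hAv (C := A ^ k) (by rw [← pow_mul, mul_comm, pow_mul, hAv, one_pow]) h2
    refine ⟨(B : Matrix _ _ F), ((B⁻¹ : GL (Fin m ⊕ Fin m) F) : Matrix _ _ F), σ, ?_, ?_⟩
    · rw [← Units.val_mul, mul_inv_cancel, Units.val_one]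
    · rw [← SubmonoidClass.coe_pow]
      exact congrArg Units.val h3)
  rwa [Fintype.card_sum, Fintype.card_fin, ← two_mul] at key

theorem three_pow {n : ℕ} (hn : 3 ≤ n) : 4 * n + 3 < 3 ^ n := by
  induction n, hn using Nat.le_induction with
  | base => norm_num
  | succ n hn ih => rw [pow_succ]; omega

theorem two_pow' {n : ℕ} (hn : 4 ≤ n) : 2 * n + 3 < 2 ^ n := by
  induction n, hn using Nat.le_induction with
  | base => norm_num
  | succ n hn ih => rw [pow_succ]; omega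

/-- **no prime is `SC`** -/
theorem nsc_psp [Fintype F] (hm : 3 ≤ m) (hex : ¬ (m = 3 ∧ Fintype.card F = 2)) : NSC (PSp m F) := by
  classical
  intro v hv hd
  haveI : Finite (Matrix.symplecticGroup (Fin m) F) :=
    Finite.of_injective (fun A => (A : Matrix (Fin m ⊕ Fin m) (Fin m ⊕ Fin m) F)) Subtype.val_injective
  haveI : Finite (PSp m F) := Quotient.finite _
  obtain ⟨p, _⟩ := CharP.exists F
  haveI : Fact p.Prime := ⟨CharP.char_is_prime F p⟩
  have hp : p.Prime := Fact.out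
  obtain ⟨f, -, hf⟩ := FiniteField.card F p
  have hcard : Nat.card F = p ^ (f : ℕ) := by rw [Nat.card_eq_fintype_card, hf]
  have hfp : 0 < (f : ℕ) := f.pos
  by_cases hv2 : v = 2
  · subst hv2
    by_cases hp2 : p = 2
    · subst hp2
      -- an odd prime divisor of `q + 1`
      obtain ⟨u, hu, hud⟩ := Nat.exists_prime_and_dvd (n := Nat.card F + 1) (by
        have := Nat.card_pos (α := F); omega)
      have hu2 : u ≠ 2 := by
        rintro rfl
        rw [hcard] at hud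
        have h1 : 2 ∣ 2 ^ (f : ℕ) := dvd_pow_self 2 f.ne_zero
        omega
      refine not_SC_of_adj (psp_adj_two_of_dvd (F := F) (m := m) (i := 1) le_rfl (by omega) hu hu2 ?_).symm
      have h1 := Nat.sq_sub_sq (Nat.card F) 1
      rw [one_pow] at h1
      rw [mul_one, h1]
      exact hud.mul_right _
    · exact not_SC_of_adj (psp_adj_two_of_char (F := F) (m := m) (by omega) hp hp2 (by
        rw [hcard]; exact dvd_pow_self p f.ne_zero)).symm
  by_cases hadj : Adj (PSp m F) v 2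
  · exact not_SC_of_adj hadj
  obtain ⟨h1, h2⟩ := psp_info (by omega) hv hv2 hd hadj
  have hvo : Odd v := hv.eq_two_or_odd'.resolve_left hv2
  -- a torus element of order `N`
  have hfm : 3 ≤ (f : ℕ) * m := le_trans hm (Nat.le_mul_of_pos_left m hfp)
  have hqm : Nat.card F ^ m = p ^ ((f : ℕ) * m) := by rw [hcard, ← pow_mul]
  have hvF : (v : F) ≠ 0 := by
    intro h0
    have h3 : p ∣ v := (CharP.cast_eq_zero_iff F p v).1 h0
    have h4 : p = v := (Nat.prime_dvd_prime_iff_eq hp hv).1 h3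
    have h5 : v ∣ Nat.card F ^ m := by
      rw [hcard, ← h4]
      exact dvd_pow (dvd_pow_self p f.ne_zero) (by omega)
    rcases h1 with h1 | h1
    · have h6 : v ∣ 1 := by
        have h7 := (Nat.dvd_sub h5 h1)
        rwa [Nat.sub_sub_self (Nat.one_le_pow _ _ Nat.card_pos)] at h7
      exact hv.one_lt.ne' (Nat.dvd_one.1 h6)
    · have h6 : v ∣ 1 := (Nat.dvd_add_right h5).1 h1
      exact hv.one_lt.ne' (Nat.dvd_one.1 h6)
  have hmain : ∃ (N : ℕ) (g : PSp m F), orderOf g = N ∧ v ∣ N ∧ 2 * ((f : ℕ) * m) + 1 < N := by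
    by_cases hp2 : p = 2
    · subst hp2
      have h4 : 4 ≤ (f : ℕ) * m := by
        by_contra hcon
        have h5 : (f : ℕ) * m = 3 := by omega
        have h6 : m = 3 := by
          have h7 : m ∣ 3 := by rw [← h5]; exact Dvd.intro_left _ rfl
          have := Nat.le_of_dvd (by norm_num) h7
          omega
        have h7 : (f : ℕ) = 1 := by
          rw [h6] at h5
          omega
        apply hex
        refine ⟨h6, ?_⟩
        rw [hf, h7, pow_one]
      have h5 := two_pow' h4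
      have heven : Even (Nat.card F ^ m) := by
        rw [hqm]
        exact (Nat.even_pow.2 ⟨even_two, by omega⟩)
      rcases h1 with h1 | h1
      · have hodd : Odd (Nat.card F ^ m - 1) := Nat.Even.sub_odd (Nat.one_le_pow _ _ Nat.card_pos) heven odd_one
        obtain ⟨g, hg⟩ := exists_psp_tor_plus (F := F) (m := m) (by omega) (N := Nat.card F ^ m - 1) (by
          rw [hqm]; omega) (Or.inl ⟨hodd, dvd_rfl⟩)
        exact ⟨_, g, hg, h1, by rw [hqm]; omega⟩
      · have hodd : Odd (Nat.card F ^ m + 1) := heven.add_one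
        obtain ⟨g, hg⟩ := exists_psp_tor_minus (F := F) (m := m) (by omega) (N := Nat.card F ^ m + 1) (by
          omega) (Or.inl ⟨hodd, dvd_rfl⟩)
        exact ⟨_, g, hg, h1, by rw [hqm]; omega⟩
    · have h3 : 3 ≤ p := by
        have := hp.two_le
        omega
      have h5 : 4 * ((f : ℕ) * m) + 3 < p ^ ((f : ℕ) * m) :=
        lt_of_lt_of_le (three_pow hfm) (Nat.pow_le_pow_left h3 _)
      have hodd : Odd (Nat.card F ^ m) := by
        rw [hqm]
        exact (hp.odd_of_ne_two hp2).pow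
      have hco : Nat.Coprime v 2 := Nat.coprime_two_right.2 hvo
      rcases h1 with h1 | h1
      · obtain ⟨k, hk⟩ := hodd
        have h6 : Nat.card F ^ m - 1 = 2 * k := by omega
        rw [h6] at h1
        obtain ⟨g, hg⟩ := exists_psp_tor_plus (F := F) (m := m) (by omega) (N := k) (by
          rw [hqm] at hk; omega) (Or.inr (by rw [h6]))
        exact ⟨_, g, hg, hco.dvd_of_dvd_mul_left h1, by rw [hqm] at hk; omega⟩
      · obtain ⟨k, hk⟩ := hodd
        have h6 : Nat.card F ^ m + 1 = 2 * (k + 1) := by omega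
        rw [h6] at h1
        obtain ⟨g, hg⟩ := exists_psp_tor_minus (F := F) (m := m) (by omega) (N := k + 1) (by
          omega) (Or.inr (by rw [h6]))
        exact ⟨_, g, hg, hco.dvd_of_dvd_mul_left h1, by rw [hqm] at hk; omega⟩
  obtain ⟨N, g, hg, hvN, hN⟩ := hmain
  by_cases hNv : N = v
  · intro hSC
    have h3 := sc_bound hm hv hv2 hvF hd hSC
    rw [Cfsg.Agent.Lib.FieldAutCard.card_ringAut (p := p) (f := f) f.pos hf] at h3
    rw [hNv] at hN
    have h4 : (f : ℕ) * (2 * m) = 2 * ((f : ℕ) * m) := by ring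
    omega
  · exact not_SC_of_orderOf hv (y := g) (by rw [hg]; exact hvN) (by rw [hg]; exact hNv)

end

end Cfsg.Agent.H388.Der
end

-- part: H388/Der/PermSp
section
/-!
# Permutation matrices in `Sp_{2n}`, and `diag(b, 1)`, `diag(b, b)`
-/

set_option autoImplicit false

namespace Cfsg.Agent.H388.Der

open Matrix Cfsg Cfsg.Agent.H343.Blk

section

variable {F : Type*} [Field F] {n k : ℕ}

theorem J_apply' (a b : Fin n ⊕ Fin n) : J (Fin n) F a b =
    if a = b.swap then (if b.isRight then -1 else 1) else 0 := by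
  rcases a with a | a <;> rcases b with b | b <;> simp [J, Matrix.one_apply]
  split <;> simp

/-- the permutation matrix of `σ` on both halves -/
def permMat (F : Type*) [Field F] (σ : Equiv.Perm (Fin n)) : Matrix (Fin n ⊕ Fin n) (Fin n ⊕ Fin n) F :=
  (1 : Matrix (Fin n ⊕ Fin n) (Fin n ⊕ Fin n) F).submatrix (Sum.map σ σ) id

theorem permMat_mulVec (σ : Equiv.Perm (Fin n)) (v : Fin n ⊕ Fin n → F) :
    permMat F σ *ᵥ v = v ∘ Sum.map σ σ := by
  funext x
  simp [permMat, Matrix.mulVec, dotProduct, Matrix.one_apply]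

theorem permMat_mem (σ : Equiv.Perm (Fin n)) : permMat F σ ∈ symplecticGroup (Fin n) F := by
  rw [SymplecticGroup.mem_iff]
  let τ : Fin n ⊕ Fin n ≃ Fin n ⊕ Fin n := Equiv.sumCongr σ σ
  have h1 : permMat F σ * J (Fin n) F = (J (Fin n) F).submatrix τ id := by
    ext x y
    rw [Matrix.mul_apply, Matrix.submatrix_apply]
    rw [Finset.sum_eq_single (τ x)]
    · show (1 : Matrix (Fin n ⊕ Fin n) (Fin n ⊕ Fin n) F) (τ x) (τ x) * _ = _
      rw [Matrix.one_apply_eq, one_mul, id]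
    · intro z _ hz
      show (1 : Matrix (Fin n ⊕ Fin n) (Fin n ⊕ Fin n) F) (τ x) z * _ = _
      rw [Matrix.one_apply_ne hz.symm, zero_mul]
    · intro h; exact absurd (Finset.mem_univ _) h
  rw [h1]
  ext x y
  rw [Matrix.mul_apply, Finset.sum_eq_single (τ y)]
  · show J (Fin n) F (τ x) (τ y) * (1 : Matrix (Fin n ⊕ Fin n) (Fin n ⊕ Fin n) F) (τ y) (τ y) = _
    rw [Matrix.one_apply_eq, mul_one, J_apply', J_apply']
    have h2 : (τ y).swap = τ y.swap := by rcases y with y | y <;> rfl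
    have h3 : (τ y).isRight = y.isRight := by rcases y with y | y <;> rfl
    rw [h2, h3]
    by_cases h4 : x = y.swap
    · rw [if_pos h4, if_pos (congrArg τ h4)]
    · rw [if_neg h4, if_neg fun h5 => h4 (τ.injective h5)]
  · intro z _ hz
    show _ * (1 : Matrix (Fin n ⊕ Fin n) (Fin n ⊕ Fin n) F) (τ y) z = _
    rw [Matrix.one_apply_ne hz.symm, mul_zero]
  · intro h; exact absurd (Finset.mem_univ _) h

/-- permutations in the symplectic group -/
def permSp (F : Type*) [Field F] (σ : Equiv.Perm (Fin n)) : symplecticGroup (Fin n) F := ⟨permMat F σ, permMat_mem σ⟩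

theorem permSp_mulVec (σ : Equiv.Perm (Fin n)) (v : Fin n ⊕ Fin n → F) :
    (permSp F σ : Matrix (Fin n ⊕ Fin n) (Fin n ⊕ Fin n) F) *ᵥ v = v ∘ Sum.map σ σ := permMat_mulVec σ v

theorem ext_mulVec {A B : symplecticGroup (Fin n) F}
    (h : ∀ v, (A : Matrix (Fin n ⊕ Fin n) (Fin n ⊕ Fin n) F) *ᵥ v = (B : Matrix (Fin n ⊕ Fin n) (Fin n ⊕ Fin n) F) *ᵥ v) :
    A = B := by
  apply Subtype.ext
  have h1 : Matrix.toLin' (A : Matrix (Fin n ⊕ Fin n) (Fin n ⊕ Fin n) F) =
      Matrix.toLin' (B : Matrix (Fin n ⊕ Fin n) (Fin n ⊕ Fin n) F) := LinearMap.ext h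
  exact Matrix.toLin'.injective h1

theorem permSp_sq {σ : Equiv.Perm (Fin n)} (h : ∀ i, σ (σ i) = i) : (permSp F σ) ^ 2 = 1 := by
  apply ext_mulVec
  intro v
  rw [pow_two, Submonoid.coe_mul, ← Matrix.mulVec_mulVec, permSp_mulVec, permSp_mulVec]
  show _ = (1 : Matrix (Fin n ⊕ Fin n) (Fin n ⊕ Fin n) F) *ᵥ v
  rw [Matrix.one_mulVec]
  funext x
  rcases x with x | x <;> simp [h]

theorem permSp_not_center {σ : Equiv.Perm (Fin n)} {i : Fin n} (h : σ i ≠ i) :
    permSp F σ ∉ Subgroup.center (symplecticGroup (Fin n) F) := by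
  intro hc
  obtain ⟨a, ha⟩ := (LieClassical.SympCenter.mem_center_iff n _).1 hc
  have h1 := permSp_mulVec (F := F) σ (Pi.single (Sum.inl (σ i)) 1)
  have h2 : (permSp F σ : Matrix (Fin n ⊕ Fin n) (Fin n ⊕ Fin n) F) = a • 1 := ha
  rw [h2, Matrix.smul_mulVec, Matrix.one_mulVec] at h1
  have h3 := congrFun h1 (Sum.inl i)
  have h4 : (Sum.inl i : Fin n ⊕ Fin n) ≠ Sum.inl (σ i) := fun h5 => h (Sum.inl_injective h5).symm
  simp [h4] at h3

end

section

variable {F : Type*} [Field F] {k : ℕ}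

/-- first half -/
def e₁ (k : ℕ) : Fin k → Fin (k + k) := Fin.castAdd k
/-- second half -/
def e₂ (k : ℕ) : Fin k → Fin (k + k) := Fin.natAdd k

theorem e₁_inj : Function.Injective (e₁ k) := Fin.castAdd_injective k k
theorem e₂_inj : Function.Injective (e₂ k) := Fin.natAdd_injective k k

theorem e_ne (i j : Fin k) : e₁ k i ≠ e₂ k j := castAdd_ne_natAdd i j

theorem se_ne (i j : Fin k ⊕ Fin k) : Sum.map (e₁ k) (e₁ k) i ≠ Sum.map (e₂ k) (e₂ k) j := by
  rcases i with i | i <;> rcases j with j | j <;> intro h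
  · exact e_ne i j (Sum.inl_injective h)
  · simp at h
  · simp at h
  · exact e_ne i j (Sum.inr_injective h)

omit [Field F] in
theorem vec_ext {v w : Fin (k + k) ⊕ Fin (k + k) → F} (h1 : v ∘ Sum.map (e₁ k) (e₁ k) = w ∘ Sum.map (e₁ k) (e₁ k))
    (h2 : v ∘ Sum.map (e₂ k) (e₂ k) = w ∘ Sum.map (e₂ k) (e₂ k)) : v = w := by
  have key : ∀ x : Fin (k + k), v (Sum.inl x) = w (Sum.inl x) ∧ v (Sum.inr x) = w (Sum.inr x) := by
    intro x
    refine Fin.addCases (fun i => ?_) (fun i => ?_) x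
    · exact ⟨congrFun h1 (Sum.inl i), congrFun h1 (Sum.inr i)⟩
    · exact ⟨congrFun h2 (Sum.inl i), congrFun h2 (Sum.inr i)⟩
  funext x
  rcases x with x | x
  · exact (key x).1
  · exact (key x).2

/-- `diag(b, 1)` -/
def d₁ (b : symplecticGroup (Fin k) F) : symplecticGroup (Fin (k + k)) F := spExt (e₁ k) e₁_inj b

/-- `diag(b, b)` -/
def d₂ (b : symplecticGroup (Fin k) F) : symplecticGroup (Fin (k + k)) F :=
  spExt (e₁ k) e₁_inj b * spExt (e₂ k) e₂_inj b

theorem x₁_fst (b : symplecticGroup (Fin k) F) (v : Fin (k + k) ⊕ Fin (k + k) → F) :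
    (((spExt (e₁ k) e₁_inj b : symplecticGroup (Fin (k + k)) F) : Matrix (Fin (k + k) ⊕ Fin (k + k)) (Fin (k + k) ⊕ Fin (k + k)) F) *ᵥ v) ∘
      Sum.map (e₁ k) (e₁ k) = (b : Matrix (Fin k ⊕ Fin k) (Fin k ⊕ Fin k) F) *ᵥ (v ∘ Sum.map (e₁ k) (e₁ k)) :=
  gext_mulVec (e₁_inj.sumMap e₁_inj) _ _

theorem x₁_snd (b : symplecticGroup (Fin k) F) (v : Fin (k + k) ⊕ Fin (k + k) → F) :
    (((spExt (e₁ k) e₁_inj b : symplecticGroup (Fin (k + k)) F) : Matrix (Fin (k + k) ⊕ Fin (k + k)) (Fin (k + k) ⊕ Fin (k + k)) F) *ᵥ v) ∘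
      Sum.map (e₂ k) (e₂ k) = v ∘ Sum.map (e₂ k) (e₂ k) :=
  gext_mulVec_comp se_ne _ _

theorem x₂_snd (b : symplecticGroup (Fin k) F) (v : Fin (k + k) ⊕ Fin (k + k) → F) :
    (((spExt (e₂ k) e₂_inj b : symplecticGroup (Fin (k + k)) F) : Matrix (Fin (k + k) ⊕ Fin (k + k)) (Fin (k + k) ⊕ Fin (k + k)) F) *ᵥ v) ∘
      Sum.map (e₂ k) (e₂ k) = (b : Matrix (Fin k ⊕ Fin k) (Fin k ⊕ Fin k) F) *ᵥ (v ∘ Sum.map (e₂ k) (e₂ k)) :=
  gext_mulVec (e₂_inj.sumMap e₂_inj) _ _

theorem x₂_fst (b : symplecticGroup (Fin k) F) (v : Fin (k + k) ⊕ Fin (k + k) → F) :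
    (((spExt (e₂ k) e₂_inj b : symplecticGroup (Fin (k + k)) F) : Matrix (Fin (k + k) ⊕ Fin (k + k)) (Fin (k + k) ⊕ Fin (k + k)) F) *ᵥ v) ∘
      Sum.map (e₁ k) (e₁ k) = v ∘ Sum.map (e₁ k) (e₁ k) :=
  gext_mulVec_comp (fun i j => (se_ne j i).symm) _ _

theorem d₂_fst (b : symplecticGroup (Fin k) F) (v : Fin (k + k) ⊕ Fin (k + k) → F) :
    ((d₂ b : Matrix (Fin (k + k) ⊕ Fin (k + k)) (Fin (k + k) ⊕ Fin (k + k)) F) *ᵥ v) ∘
      Sum.map (e₁ k) (e₁ k) = (b : Matrix (Fin k ⊕ Fin k) (Fin k ⊕ Fin k) F) *ᵥ (v ∘ Sum.map (e₁ k) (e₁ k)) := by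
  rw [d₂, Submonoid.coe_mul, ← Matrix.mulVec_mulVec, x₁_fst, x₂_fst]

theorem d₂_snd (b : symplecticGroup (Fin k) F) (v : Fin (k + k) ⊕ Fin (k + k) → F) :
    ((d₂ b : Matrix (Fin (k + k) ⊕ Fin (k + k)) (Fin (k + k) ⊕ Fin (k + k)) F) *ᵥ v) ∘
      Sum.map (e₂ k) (e₂ k) = (b : Matrix (Fin k ⊕ Fin k) (Fin k ⊕ Fin k) F) *ᵥ (v ∘ Sum.map (e₂ k) (e₂ k)) := by
  rw [d₂, Submonoid.coe_mul, ← Matrix.mulVec_mulVec, x₁_snd, x₂_snd]

theorem spExt_comm (a b : symplecticGroup (Fin k) F) :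
    Commute (spExt (e₁ k) e₁_inj a) (spExt (e₂ k) e₂_inj b) := by
  apply ext_mulVec
  intro v
  apply vec_ext
  · rw [Submonoid.coe_mul, Submonoid.coe_mul, ← Matrix.mulVec_mulVec, ← Matrix.mulVec_mulVec, x₁_fst, x₂_fst, x₂_fst,
      x₁_fst]
  · rw [Submonoid.coe_mul, Submonoid.coe_mul, ← Matrix.mulVec_mulVec, ← Matrix.mulVec_mulVec, x₁_snd, x₂_snd, x₂_snd,
      x₁_snd]

theorem orderOf_d₁ (b : symplecticGroup (Fin k) F) : orderOf (d₁ b) = orderOf b :=
  orderOf_injective (spExt (e₁ k) e₁_inj) (spExt_injective _ _) b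

theorem orderOf_d₂ (b : symplecticGroup (Fin k) F) : orderOf (d₂ b) = orderOf b := by
  have key : ∀ j : ℕ, (d₂ b) ^ j = 1 ↔ b ^ j = 1 := by
    intro j
    have hp : (d₂ b) ^ j = d₂ (b ^ j) := by
      rw [d₂, (spExt_comm b b).mul_pow, ← map_pow, ← map_pow, d₂]
    rw [hp]
    constructor
    · intro h
      apply ext_mulVec
      intro w
      let v : Fin (k + k) ⊕ Fin (k + k) → F := inc F (Sum.map (e₁ k) (e₁ k)) *ᵥ w
      have hv : v ∘ Sum.map (e₁ k) (e₁ k) = w := by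
        funext i
        exact inc_mulVec (e₁_inj.sumMap e₁_inj) w i
      have h1 := d₂_fst (b ^ j) v
      rw [h, hv] at h1
      rw [← h1]
      show ((1 : Matrix (Fin (k + k) ⊕ Fin (k + k)) (Fin (k + k) ⊕ Fin (k + k)) F) *ᵥ v) ∘ _ =
        (1 : Matrix (Fin k ⊕ Fin k) (Fin k ⊕ Fin k) F) *ᵥ w
      rw [Matrix.one_mulVec, Matrix.one_mulVec, hv]
    · intro h
      rw [h, d₂, map_one, map_one, mul_one]
  exact orderOf_eq_orderOf_iff.2 key

theorem d₂_fix {b : symplecticGroup (Fin k) F}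
    (hb : ∀ v, (b : Matrix (Fin k ⊕ Fin k) (Fin k ⊕ Fin k) F) *ᵥ v = v → v = 0)
    (v : Fin (k + k) ⊕ Fin (k + k) → F)
    (hv : (d₂ b : Matrix (Fin (k + k) ⊕ Fin (k + k)) (Fin (k + k) ⊕ Fin (k + k)) F) *ᵥ v = v) : v = 0 := by
  apply vec_ext
  · have h1 := d₂_fst b v
    rw [hv] at h1
    rw [hb _ h1.symm]
    rfl
  · have h1 := d₂_snd b v
    rw [hv] at h1
    rw [hb _ h1.symm]
    rfl

theorem d₁_fix (hk : 1 ≤ k) (b : symplecticGroup (Fin k) F) : ∃ v : Fin (k + k) ⊕ Fin (k + k) → F, v ≠ 0 ∧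
    (d₁ b : Matrix (Fin (k + k) ⊕ Fin (k + k)) (Fin (k + k) ⊕ Fin (k + k)) F) *ᵥ v = v := by
  let x : Fin (k + k) ⊕ Fin (k + k) := Sum.inl (e₂ k ⟨0, hk⟩)
  refine ⟨Pi.single x 1, ?_, ?_⟩
  · intro h
    have := congrFun h x
    simp at this
  · have h0 : (Pi.single x 1 : Fin (k + k) ⊕ Fin (k + k) → F) ∘ Sum.map (e₁ k) (e₁ k) = 0 := by
      funext i
      rw [Function.comp_apply, Pi.single_eq_of_ne, Pi.zero_apply]
      exact se_ne i (Sum.inl ⟨0, hk⟩)
    apply vec_ext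
    · rw [d₁, x₁_fst, h0, Matrix.mulVec_zero]
    · rw [d₁, x₁_snd]

/-- the permutation of the two halves -/
def flipPerm (k : ℕ) : Equiv.Perm (Fin (k + k)) := finAddFlip

theorem flip_e₁ (i : Fin k) : flipPerm k (e₁ k i) = e₂ k i := finAddFlip_apply_castAdd i k
theorem flip_e₂ (i : Fin k) : flipPerm k (e₂ k i) = e₁ k i := finAddFlip_apply_natAdd i k

theorem flip_flip (i : Fin (k + k)) : flipPerm k (flipPerm k i) = i := by
  refine Fin.addCases (fun j => ?_) (fun j => ?_) i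
  · show flipPerm k (flipPerm k (e₁ k j)) = e₁ k j
    rw [flip_e₁, flip_e₂]
  · show flipPerm k (flipPerm k (e₂ k j)) = e₂ k j
    rw [flip_e₂, flip_e₁]

/-- `diag(b, b)` commutes with the permutation of the blocks -/
theorem d₂_comm (b : symplecticGroup (Fin k) F) : Commute (d₂ b) (permSp F (flipPerm k)) := by
  have h1 : Sum.map (flipPerm k) (flipPerm k) ∘ Sum.map (e₁ k) (e₁ k) = Sum.map (e₂ k) (e₂ k) := by
    funext i
    rcases i with i | i
    · exact congrArg Sum.inl (flip_e₁ i)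
    · exact congrArg Sum.inr (flip_e₁ i)
  have h2 : Sum.map (flipPerm k) (flipPerm k) ∘ Sum.map (e₂ k) (e₂ k) = Sum.map (e₁ k) (e₁ k) := by
    funext i
    rcases i with i | i
    · exact congrArg Sum.inl (flip_e₂ i)
    · exact congrArg Sum.inr (flip_e₂ i)
  apply ext_mulVec
  intro v
  apply vec_ext
  · rw [Submonoid.coe_mul, Submonoid.coe_mul, ← Matrix.mulVec_mulVec, ← Matrix.mulVec_mulVec, permSp_mulVec,
      permSp_mulVec, d₂_fst, Function.comp_assoc, Function.comp_assoc, h1, d₂_snd]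
  · rw [Submonoid.coe_mul, Submonoid.coe_mul, ← Matrix.mulVec_mulVec, ← Matrix.mulVec_mulVec, permSp_mulVec,
      permSp_mulVec, d₂_snd, Function.comp_assoc, Function.comp_assoc, h2, d₂_fst]

/-- a transposition in the second half -/
def tPerm (k : ℕ) (i j : Fin k) : Equiv.Perm (Fin (k + k)) := Equiv.swap (e₂ k i) (e₂ k j)

theorem tPerm_e₁ (i j l : Fin k) : tPerm k i j (e₁ k l) = e₁ k l :=
  Equiv.swap_apply_of_ne_of_ne (e_ne _ _) (e_ne _ _)

theorem tPerm_e₂ (i j l : Fin k) : tPerm k i j (e₂ k l) = e₂ k (Equiv.swap i j l) := by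
  rw [tPerm, e₂_inj.swap_apply]

theorem d₁_comm (b : symplecticGroup (Fin k) F) (i j : Fin k) : Commute (d₁ b) (permSp F (tPerm k i j)) := by
  have h1 : Sum.map (tPerm k i j) (tPerm k i j) ∘ Sum.map (e₁ k) (e₁ k) = Sum.map (e₁ k) (e₁ k) := by
    funext l
    rcases l with l | l
    · exact congrArg Sum.inl (tPerm_e₁ i j l)
    · exact congrArg Sum.inr (tPerm_e₁ i j l)
  have h2 : Sum.map (tPerm k i j) (tPerm k i j) ∘ Sum.map (e₂ k) (e₂ k) = Sum.map (e₂ k) (e₂ k) ∘
      Sum.map (Equiv.swap i j) (Equiv.swap i j) := by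
    funext l
    rcases l with l | l
    · exact congrArg Sum.inl (tPerm_e₂ i j l)
    · exact congrArg Sum.inr (tPerm_e₂ i j l)
  apply ext_mulVec
  intro v
  apply vec_ext
  · rw [Submonoid.coe_mul, Submonoid.coe_mul, ← Matrix.mulVec_mulVec, ← Matrix.mulVec_mulVec, permSp_mulVec,
      permSp_mulVec, d₁, x₁_fst, Function.comp_assoc, Function.comp_assoc, h1, x₁_fst]
  · rw [Submonoid.coe_mul, Submonoid.coe_mul, ← Matrix.mulVec_mulVec, ← Matrix.mulVec_mulVec, permSp_mulVec,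
      permSp_mulVec, d₁, x₁_snd, Function.comp_assoc, Function.comp_assoc, h2, ← Function.comp_assoc,
      ← Function.comp_assoc, x₁_snd]

end

end Cfsg.Agent.H388.Der
end

-- part: H388/Der/TwoCyc
section
/-!
# Subgroups of `PSp_{2m}(q)` with all elements of order `r` conjugate up to powers

* `two_of_missing` : an element `y` of odd order missing (up to `Aut`), commuting with a noncentral `w`, `w ^ 2 = 1`;
* `two_of_conj` : `y₁` with, `y₂` without fixed vectors.
-/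

set_option autoImplicit false

namespace Cfsg.Agent.H388.Der

open Matrix Cfsg Cfsg.Agent.H439.Der Cfsg.Agent.H876

section

variable {F : Type} [Field F] {m : ℕ}

theorem two_of_missing {r : ℕ} (hr : Odd r) {y w : Matrix.symplecticGroup (Fin m) F} (hy : y ^ r = 1) (hw : w ^ 2 = 1)
    (hwc : w ∉ Subgroup.center (Matrix.symplecticGroup (Fin m) F)) (hc : Commute y w) {R : Subgroup (PSp m F)}
    (hm : ∀ φ : PSp m F ≃* PSp m F, φ (QuotientGroup.mk y) ∉ R) : Two (PSp m F) R := by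
  obtain ⟨k, hk⟩ := hr
  refine ⟨QuotientGroup.mk y, QuotientGroup.mk (y * w), hm, fun φ hφ => hm φ ?_, fun φ hφ => hwc ?_⟩
  · have h1 : (y * w) ^ (r + 1) = y := by
      rw [hc.mul_pow, pow_succ, hy, one_mul, hk, show 2 * k + 1 + 1 = 2 * (k + 1) by ring, pow_mul, hw, one_pow, mul_one]
    rw [← h1, QuotientGroup.mk_pow, map_pow]
    exact R.pow_mem hφ _
  · have h1 : (QuotientGroup.mk (y * w) : PSp m F) ^ r = 1 := by
      rw [← hφ, ← map_pow, ← QuotientGroup.mk_pow, hy, QuotientGroup.mk_one, map_one]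
    rw [← QuotientGroup.mk_pow, hc.mul_pow, hy, one_mul, hk, pow_succ, pow_mul, hw, one_pow, one_mul] at h1
    exact (QuotientGroup.eq_one_iff _).1 h1

theorem fix_pow {y : Matrix.symplecticGroup (Fin m) F} {v : Fin m ⊕ Fin m → F}
    (hv : (y : Matrix (Fin m ⊕ Fin m) (Fin m ⊕ Fin m) F) *ᵥ v = v) (j : ℕ) :
    ((y ^ j : Matrix.symplecticGroup (Fin m) F) : Matrix (Fin m ⊕ Fin m) (Fin m ⊕ Fin m) F) *ᵥ v = v := by
  induction j with
  | zero =>
    rw [pow_zero]
    show (1 : Matrix (Fin m ⊕ Fin m) (Fin m ⊕ Fin m) F) *ᵥ v = v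
    exact Matrix.one_mulVec v
  | succ j ih => rw [pow_succ, Submonoid.coe_mul, ← Matrix.mulVec_mulVec, hv, ih]

theorem orderOf_mk {r : ℕ} (hr : r.Prime) (hr2 : r ≠ 2) {y : Matrix.symplecticGroup (Fin m) F} (h : orderOf y = r) :
    orderOf (QuotientGroup.mk y : PSp m F) = r := by
  have := Fact.mk hr
  have hy : y ^ r = 1 := by rw [← h]; exact pow_orderOf_eq_one y
  refine orderOf_eq_prime ?_ fun h1 => ?_
  · rw [← QuotientGroup.mk_pow, hy, QuotientGroup.mk_one]
  · have h2 : y = 1 := lift_unique (hr.eq_two_or_odd'.resolve_left hr2) hy (one_pow r)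
      (h1.trans (QuotientGroup.mk_one _).symm)
    rw [h2, orderOf_one] at h
    exact hr.one_lt.ne h

/-- **All elements of order `r` of `R` conjugate up to powers.** -/
theorem two_of_conj [Finite F] (hm : 3 ≤ m) {r : ℕ} (hr : r.Prime) (hr2 : r ≠ 2)
    {y₁ y₂ w₁ w₂ : Matrix.symplecticGroup (Fin m) F} (h1 : orderOf y₁ = r) (h2 : orderOf y₂ = r)
    (hf₁ : ∃ v : Fin m ⊕ Fin m → F, v ≠ 0 ∧ (y₁ : Matrix (Fin m ⊕ Fin m) (Fin m ⊕ Fin m) F) *ᵥ v = v)
    (hf₂ : ∀ v, (y₂ : Matrix (Fin m ⊕ Fin m) (Fin m ⊕ Fin m) F) *ᵥ v = v → v = 0)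
    (hw₁ : w₁ ^ 2 = 1) (hw₂ : w₂ ^ 2 = 1) (hn₁ : w₁ ∉ Subgroup.center (Matrix.symplecticGroup (Fin m) F))
    (hn₂ : w₂ ∉ Subgroup.center (Matrix.symplecticGroup (Fin m) F)) (hc₁ : Commute y₁ w₁) (hc₂ : Commute y₂ w₂)
    {R : Subgroup (PSp m F)}
    (hR : ∀ a b : R, orderOf a = r → orderOf b = r → ∃ (c : R) (j : ℤ), b = c * a ^ j * c⁻¹) :
    Two (PSp m F) R := by
  classical
  have hro : Odd r := hr.eq_two_or_odd'.resolve_left hr2
  have hy₁ : y₁ ^ r = 1 := by rw [← h1]; exact pow_orderOf_eq_one y₁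
  have hy₂ : y₂ ^ r = 1 := by rw [← h2]; exact pow_orderOf_eq_one y₂
  by_cases hA : ∀ φ : PSp m F ≃* PSp m F, φ (QuotientGroup.mk y₁) ∉ R
  · exact two_of_missing hro hy₁ hw₁ hn₁ hc₁ hA
  by_cases hB : ∀ φ : PSp m F ≃* PSp m F, φ (QuotientGroup.mk y₂) ∉ R
  · exact two_of_missing hro hy₂ hw₂ hn₂ hc₂ hB
  exfalso
  push Not at hA hB
  obtain ⟨φ₁, hφ₁⟩ := hA
  obtain ⟨φ₂, hφ₂⟩ := hB
  have ho : ∀ {y : Matrix.symplecticGroup (Fin m) F} {φ : PSp m F ≃* PSp m F}
      (hy : orderOf y = r) (hm : φ (QuotientGroup.mk y) ∈ R), orderOf (⟨φ (QuotientGroup.mk y), hm⟩ : R) = r := by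
    intro y φ hy hm
    rw [Subgroup.orderOf_mk, MulEquiv.orderOf_eq, orderOf_mk hr hr2 hy]
  obtain ⟨c, j, hc⟩ := hR ⟨_, hφ₁⟩ ⟨_, hφ₂⟩ (ho h1 hφ₁) (ho h2 hφ₂)
  have hc' : φ₂ (QuotientGroup.mk y₂) = (c : PSp m F) * (φ₁ (QuotientGroup.mk y₁)) ^ j * (c : PSp m F)⁻¹ :=
    congrArg Subtype.val hc
  -- a natural exponent
  obtain ⟨n, hn⟩ : ∃ n : ℕ, (φ₁ (QuotientGroup.mk y₁)) ^ j = (φ₁ (QuotientGroup.mk y₁)) ^ n := by
    have hfo : IsOfFinOrder (φ₁ (QuotientGroup.mk y₁)) := by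
      rw [← orderOf_pos_iff, MulEquiv.orderOf_eq, orderOf_mk hr hr2 h1]
      exact hr.pos
    have hmem : (φ₁ (QuotientGroup.mk y₁)) ^ j ∈ Subgroup.zpowers (φ₁ (QuotientGroup.mk y₁)) := ⟨j, rfl⟩
    rw [hfo.mem_zpowers_iff_mem_range_orderOf] at hmem
    obtain ⟨n, -, hn⟩ := Finset.mem_image.1 hmem
    exact ⟨n, hn.symm⟩
  rw [hn] at hc'
  -- the automorphism
  have hψ : (((MulAut.conj (c : PSp m F)).symm.trans φ₁.symm : PSp m F ≃* PSp m F)) (φ₂ (QuotientGroup.mk y₂)) =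
      QuotientGroup.mk (y₁ ^ n) := by
    rw [hc', MulEquiv.trans_apply]
    have h3 : (MulAut.conj (c : PSp m F)).symm ((c : PSp m F) * (φ₁ (QuotientGroup.mk y₁)) ^ n * (c : PSp m F)⁻¹) =
        (φ₁ (QuotientGroup.mk y₁)) ^ n := by
      rw [MulEquiv.symm_apply_eq]
      rfl
    rw [h3, ← map_pow, MulEquiv.symm_apply_apply, QuotientGroup.mk_pow]
  obtain ⟨B, σ, hB⟩ := aut_odd hm hro (φ₂.trans ((MulAut.conj (c : PSp m F)).symm.trans φ₁.symm)) hy₂
    (C := y₁ ^ n) (by rw [← pow_mul, mul_comm, pow_mul, hy₁, one_pow]) hψ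
  obtain ⟨v, hv0, hv⟩ := hf₁
  apply hv0
  refine Cfsg.Agent.H81.SaxSp.fix_map (A := spToGL m F y₂) (B := B) (σ := σ) hf₂ v ?_
  rw [← hB]
  exact fix_pow hv n

end

section

variable {F : Type} [Field F] {k : ℕ}

/-- **The case of `Sp_{4k}(q)`.** -/
theorem two_of_blk [Finite F] (hk : 2 ≤ k) {r : ℕ} (hr : r.Prime) (hr2 : r ≠ 2)
    {b : Matrix.symplecticGroup (Fin k) F} (hb : orderOf b = r)
    (hf : ∀ v, (b : Matrix (Fin k ⊕ Fin k) (Fin k ⊕ Fin k) F) *ᵥ v = v → v = 0)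
    {R : Subgroup (PSp (k + k) F)}
    (hR : ∀ a b : R, orderOf a = r → orderOf b = r → ∃ (c : R) (j : ℤ), b = c * a ^ j * c⁻¹) :
    Two (PSp (k + k) F) R := by
  have hi : (⟨0, by omega⟩ : Fin k) ≠ ⟨1, by omega⟩ := by
    intro h
    exact absurd (congrArg Fin.val h) (by norm_num)
  refine two_of_conj (by omega) hr hr2 (y₁ := d₁ b) (y₂ := d₂ b) (w₁ := permSp F (tPerm k ⟨0, by omega⟩ ⟨1, by omega⟩))
    (w₂ := permSp F (flipPerm k)) (by rw [orderOf_d₁, hb]) (by rw [orderOf_d₂, hb]) (d₁_fix (by omega) b)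
    (d₂_fix hf) (permSp_sq fun i => ?_) (permSp_sq flip_flip) (permSp_not_center (i := e₂ k ⟨0, by omega⟩) ?_)
    (permSp_not_center (i := e₁ k ⟨0, by omega⟩) ?_) (d₁_comm b _ _) (d₂_comm b) hR
  · show Equiv.swap _ _ (Equiv.swap _ _ i) = i
    rw [← Equiv.Perm.mul_apply, Equiv.swap_mul_self, Equiv.Perm.one_apply]
  · rw [tPerm_e₂, Equiv.swap_apply_left]
    intro h
    exact hi (e₂_inj h).symm
  · rw [flip_e₁]
    exact (e_ne _ _).symm

/-- the element `diag(b, b)` missing -/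
theorem two_of_blk' (hk : 2 ≤ k) {r : ℕ} (hr : Odd r)
    {b : Matrix.symplecticGroup (Fin k) F} (hb : b ^ r = 1) {R : Subgroup (PSp (k + k) F)}
    (hm : ∀ φ : PSp (k + k) F ≃* PSp (k + k) F, φ (QuotientGroup.mk (d₂ b)) ∉ R) : Two (PSp (k + k) F) R := by
  refine two_of_missing hr (y := d₂ b) (w := permSp F (flipPerm k)) ?_ (permSp_sq flip_flip)
    (permSp_not_center (i := e₁ k ⟨0, by omega⟩) ?_) (d₂_comm b) hm
  · apply orderOf_dvd_iff_pow_eq_one.1
    rw [orderOf_d₂]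
    exact orderOf_dvd_of_pow_eq_one hb
  · rw [flip_e₁]
    exact (e_ne _ _).symm

end

end Cfsg.Agent.H388.Der
end

-- part: H388/Der/BlkEx
section
/-!
# Fixed point free elements of odd prime order of `Sp_{2k}(q)`; orthogonal subgroups of minus type
-/

set_option autoImplicit false
set_option linter.style.haveILetI false

namespace Cfsg.Agent.H388.Der

open Matrix Cfsg Cfsg.Geo Cfsg.Agent.H439.Der Cfsg.Agent.H876 Cfsg.Agent.H262.El

section

variable {F : Type} [Field F] [Fintype F]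

/-- primes `r` with `ord_r(q) = 2k` -/
theorem blk_of_od {k r : ℕ} (hk : 1 ≤ k) (hr : Od (Fintype.card F) (2 * k) r) :
    ∃ b : Matrix.symplecticGroup (Fin k) F, orderOf b = r ∧
      ∀ v, (b : Matrix (Fin k ⊕ Fin k) (Fin k ⊕ Fin k) F) *ᵥ v = v → v = 0 := by
  have := Fact.mk hr.prime
  haveI : Finite (Matrix.symplecticGroup (Fin k) F) :=
    Finite.of_injective (fun A => (A : Matrix (Fin k ⊕ Fin k) (Fin k ⊕ Fin k) F)) Subtype.val_injective
  have h1 : r ∣ Nat.card (Matrix.symplecticGroup (Fin k) F) := by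
    rw [Cfsg.Agent.S0245.result (F := F) rfl k]
    refine dvd_mul_of_dvd_right (dvd_trans ?_ (Finset.dvd_prod_of_mem _
      (Finset.mem_range.2 (show k - 1 < k by omega)))) _
    rw [show k - 1 + 1 = k by omega]
    exact (hr.dvd_iff Fintype.card_pos _).2 dvd_rfl
  obtain ⟨b, hb⟩ := exists_prime_orderOf_dvd_card' r h1
  refine ⟨b, hb, fun v hv => ?_⟩
  have hbr : (spToGL k F b) ^ r = 1 := by
    rw [← map_pow, ← hb, pow_orderOf_eq_one, map_one]
  have hb1 : spToGL k F b ≠ 1 := by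
    intro h
    have h2 : b = 1 := spToGL_injective (h.trans (map_one _).symm)
    rw [h2, orderOf_one] at hb
    exact hr.prime.one_lt.ne hb
  have hι : Fintype.card (Fin k ⊕ Fin k) = 2 * k := by rw [Fintype.card_sum, Fintype.card_fin, two_mul]
  have hir := irr_of_od (ι := Fin k ⊕ Fin k) (by rw [hι]; exact hr) hbr hb1
    (LinearMap.eqLocus (Matrix.toLin' ((spToGL k F b : GL (Fin k ⊕ Fin k) F) : Matrix (Fin k ⊕ Fin k) (Fin k ⊕ Fin k) F))
      LinearMap.id) (fun w hw => by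
        rw [LinearMap.mem_eqLocus] at hw ⊢
        have h3 : ((spToGL k F b : GL (Fin k ⊕ Fin k) F) : Matrix (Fin k ⊕ Fin k) (Fin k ⊕ Fin k) F) *ᵥ w = w := hw
        rw [h3]
        exact hw)
  rcases hir with h | h
  · have h4 : v ∈ (⊥ : Submodule F (Fin k ⊕ Fin k → F)) := by
      rw [← h, LinearMap.mem_eqLocus]
      exact hv
    exact (Submodule.mem_bot F).1 h4
  · exfalso
    apply hb1
    apply Units.ext
    apply Matrix.toLin'.injective
    refine LinearMap.ext fun w => ?_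
    have h4 : w ∈ (⊤ : Submodule F (Fin k ⊕ Fin k → F)) := trivial
    rw [← h, LinearMap.mem_eqLocus] at h4
    rw [h4, Units.val_one, Matrix.toLin'_one]

end

/-! ### `k = 3`, `q = 2` -/

/-- the companion matrix of `x ^ 3 + x + 1` and its inverse transpose -/
def B7 : Matrix (Fin 3 ⊕ Fin 3) (Fin 3 ⊕ Fin 3) (ZMod 2) :=
  Matrix.fromBlocks !![0,0,1; 1,0,1; 0,1,0] 0 0 !![1,0,1; 1,0,0; 0,1,0]

set_option maxRecDepth 100000 in
theorem B7_props : B7 * Matrix.J (Fin 3) (ZMod 2) * B7.transpose = Matrix.J (Fin 3) (ZMod 2) ∧ B7 ^ 7 = 1 ∧ B7 ≠ 1 ∧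
    B7 ^ 6 + B7 ^ 5 + B7 ^ 4 + B7 ^ 3 + B7 ^ 2 + B7 + 1 = 0 := by
  decide +kernel

theorem blk_seven {F : Type} [Field F] [Fintype F] (hF : Fintype.card F = 2) :
    ∃ b : Matrix.symplecticGroup (Fin 3) F, orderOf b = 7 ∧
      ∀ v, (b : Matrix (Fin 3 ⊕ Fin 3) (Fin 3 ⊕ Fin 3) F) *ᵥ v = v → v = 0 := by
  have : Fact (Nat.Prime 7) := ⟨by norm_num⟩
  have hchar : CharP F 2 := by
    obtain ⟨p, hp⟩ := CharP.exists F
    have hpp : p.Prime := CharP.char_is_prime F p
    obtain ⟨n, -, hn⟩ := FiniteField.card F p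
    rw [hF] at hn
    have h2 : p ∣ 2 := by rw [hn]; exact dvd_pow_self p n.ne_zero
    have h3 : p = 2 := (Nat.prime_dvd_prime_iff_eq hpp Nat.prime_two).1 h2
    rw [← h3]
    exact hp
  let f : ZMod 2 →+* F := ZMod.castHom dvd_rfl F
  have hmul : ∀ A B : Matrix (Fin 3 ⊕ Fin 3) (Fin 3 ⊕ Fin 3) (ZMod 2), (A * B).map f = A.map f * B.map f :=
    fun A B => Matrix.map_mul
  have hone : (1 : Matrix (Fin 3 ⊕ Fin 3) (Fin 3 ⊕ Fin 3) (ZMod 2)).map f = 1 := Matrix.map_one f (map_zero f) (map_one f)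
  have hJ : (Matrix.J (Fin 3) (ZMod 2)).map f = Matrix.J (Fin 3) F := by
    ext i j
    rw [Matrix.map_apply, J_apply', J_apply']
    split_ifs
    · rw [map_neg, map_one]
    · rw [map_one]
    · rw [map_zero]
  have hmem : B7.map f ∈ Matrix.symplecticGroup (Fin 3) F := by
    rw [SymplecticGroup.mem_iff]
    have h1 : (B7 * Matrix.J (Fin 3) (ZMod 2) * B7.transpose).map f = (Matrix.J (Fin 3) (ZMod 2)).map f := by
      rw [B7_props.1]
    rw [hmul, hmul, hJ] at h1
    exact h1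
  have h7 : (B7.map f) ^ 7 = 1 := by
    have h1 : (B7 ^ 7).map f = (1 : Matrix (Fin 3 ⊕ Fin 3) (Fin 3 ⊕ Fin 3) (ZMod 2)).map f := by
      rw [B7_props.2.1]
    rw [hone, Matrix.map_pow] at h1
    exact h1
  have h1 : B7.map f ≠ 1 := by
    intro h
    rw [← hone] at h
    exact B7_props.2.2.1 (Matrix.map_injective f.injective h)
  refine ⟨⟨B7.map f, hmem⟩, orderOf_eq_prime (Subtype.ext (by rw [SubmonoidClass.coe_pow]; exact h7))
    (fun h => h1 (congrArg Subtype.val h)), fun v hv => ?_⟩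
  have hv' : B7.map f *ᵥ v = v := hv
  have hp : ∀ j : ℕ, (B7.map f) ^ j *ᵥ v = v := by
    intro j
    induction j with
    | zero => rw [pow_zero, Matrix.one_mulVec]
    | succ j ih => rw [pow_succ, ← Matrix.mulVec_mulVec, hv', ih]
  have h2 := congrArg (fun M => M.map f) B7_props.2.2.2
  have hadd : ∀ A B : Matrix (Fin 3 ⊕ Fin 3) (Fin 3 ⊕ Fin 3) (ZMod 2), (A + B).map f = A.map f + B.map f :=
    fun A B => Matrix.map_add f (fun a b => map_add f a b) A B
  simp only [hadd, hone, Matrix.map_pow] at h2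
  have h3 : (0 : Matrix (Fin 3 ⊕ Fin 3) (Fin 3 ⊕ Fin 3) (ZMod 2)).map f = 0 := Matrix.map_zero f (map_zero f)
  rw [h3] at h2
  have h4 := congrArg (fun M => M *ᵥ v) h2
  simp only [Matrix.add_mulVec, hp, hv', Matrix.one_mulVec, Matrix.zero_mulVec] at h4
  have h5 : v + v = 0 := by
    funext i
    exact CharTwo.add_self_eq_zero (v i)
  rw [h5, zero_add, h5, zero_add, h5, zero_add] at h4
  exact h4

/-! ### orthogonal groups of minus type -/

section

variable {F : Type} [Field F] [Fintype F]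

omit [Fintype F] in
theorem nondeg_symp {n : ℕ} {Q : QuadraticForm F (Fin n ⊕ Fin n → F)}
    (hQ1 : ∀ u v : Fin n ⊕ Fin n → F, QuadraticMap.polar ⇑Q u v = Cfsg.sympForm n F u v) :
    Cfsg.Agent.LieClassical.OrthCore.Nondeg Q := by
  intro x hx
  have h1 : ∀ w : Fin n ⊕ Fin n → F, x ⬝ᵥ w = 0 := by
    intro w
    have h2 := hx (Matrix.J (Fin n) F *ᵥ (-w))
    rw [hQ1, Cfsg.sympForm, Matrix.mulVec_mulVec, Matrix.J_squared, Matrix.neg_mulVec, Matrix.one_mulVec,
      neg_neg] at h2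
    exact h2
  exact dotProduct_eq_zero_iff.1 h1

/-- **orthogonal subgroups of minus type** -/
theorem two_minus {k r : ℕ} (hk : 2 ≤ k) (hr : r.Prime) (hr2 : r ≠ 2)
    (hnum : ((Fintype.card F : ZMod r) ^ (k + k) + 1) * ((Fintype.card F : ZMod r) ^ (k + k - 1) - 1) ≠ 0)
    {b : Matrix.symplecticGroup (Fin k) F} (hb : orderOf b = r)
    (hf : ∀ v, (b : Matrix (Fin k ⊕ Fin k) (Fin k ⊕ Fin k) F) *ᵥ v = v → v = 0)
    {R : Subgroup (PSp (k + k) F)} (hR : Cfsg.Agent.H901.SaxSp.InOMinus (k + k) F (pre R)) :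
    Two (PSp (k + k) F) R := by
  obtain ⟨-, -, Q, hpol, hQP, hle⟩ := hR
  have hro : Odd r := hr.eq_two_or_odd'.resolve_left hr2
  have hbr : b ^ r = 1 := by rw [← hb]; exact pow_orderOf_eq_one b
  refine two_of_blk' hk hro hbr fun φ hφ => ?_
  have hd2 : (d₂ b) ^ r = 1 := by
    apply orderOf_dvd_iff_pow_eq_one.1
    rw [orderOf_d₂, hb]
  obtain ⟨C, hC, hCr⟩ := exists_lift (F := F) (m := k + k) hro (x := φ (QuotientGroup.mk (d₂ b))) (by
    rw [← map_pow, ← QuotientGroup.mk_pow, hd2, QuotientGroup.mk_one, map_one])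
  obtain ⟨B, σ, hB⟩ := aut_odd (by omega) hro φ hd2 hCr hC.symm
  have hCf : ∀ v, ((spToGL (k + k) F C : GL (Fin (k + k) ⊕ Fin (k + k)) F) :
      Matrix (Fin (k + k) ⊕ Fin (k + k)) (Fin (k + k) ⊕ Fin (k + k)) F) *ᵥ v = v → v = 0 := by
    rw [hB]
    exact Cfsg.Agent.H81.SaxSp.fix_map (A := spToGL (k + k) F (d₂ b)) (B := B) (σ := σ) (d₂_fix hf)
  rw [← hC, ← mem_pre] at hφ
  have hsim : spToGL (k + k) F C ∈ quadSimilarityGroup (⇑Q) := by
    refine ⟨1, fun v => ?_⟩
    rw [Units.val_one, one_mul]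
    exact (Cfsg.Agent.ClassicalGeometry.Reflection.mem_isometryGroup_iff _ _).1 (hle hφ) v
  have hι : Fintype.card (Fin (k + k) ⊕ Fin (k + k)) = 2 * (k + k) := by
    rw [Fintype.card_sum, Fintype.card_fin, two_mul]
  rcases quad_dichotomy (m := k + k) (by omega) hι hr
    (Cfsg.Agent.H883.Bridge.isNondegenerateQuadraticForm (nondeg_symp hpol)) hsim
    (by rw [← map_pow, hCr, map_one]) hCf with ⟨⟨Q', hQ', hP⟩, -⟩ | ⟨-, h⟩
  · have : Q' = Q := DFunLike.coe_injective hQ'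
    rw [this] at hP
    exact hQP hP
  · exact hnum h

end

end Cfsg.Agent.H388.Der
end

-- part: H388/Der/RowPSp
section
/-!
# S3500: the row `PSp_{2m}(q)`, `m ≥ 3`, `(m, q) ≠ (3, 2)`

`two_psp` : every proper subgroup `R` has two missing classes (`Two`).
-/

set_option autoImplicit false
set_option linter.style.haveILetI false

namespace Cfsg.Agent.H388.Der

open Matrix Cfsg Cfsg.Geo Cfsg.Agent.H439.Der Cfsg.Agent.H876 Cfsg.Agent.H262.El Cfsg.Agent.OrdDiv Cfsg.Agent.H436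
  Cfsg.Agent.H264.FKS Cfsg.Agent.H915.GN
open Cfsg.Agent.H278.El.SporNum (IsCl exc)
open Cfsg.Agent.H278.El.AltNum (dimOf surv)

section

variable {F : Type} [Field F] [Fintype F]

theorem od_of_prim {q e r : ℕ} (h : Prim q e r) : Od q e r := by
  refine ⟨h.prime, ?_, h.not_dvd⟩
  have := Fact.mk h.prime
  have hq : 1 ≤ q := by
    rcases Nat.eq_zero_or_pos q with rfl | h1
    · exact absurd (dvd_zero r) h.not_dvd
    · exact h1
  refine Nat.dvd_antisymm (orderOf_dvd_of_pow_eq_one ?_) ?_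
  · have h1 := (h.dvd_iff e).2 dvd_rfl
    have h2 : ((q ^ e - 1 : ℕ) : ZMod r) = 0 := (ZMod.natCast_eq_zero_iff _ _).2 h1
    rw [Nat.cast_sub (Nat.one_le_pow _ _ hq)] at h2
    push_cast at h2
    exact sub_eq_zero.1 h2
  · apply (h.dvd_iff _).1
    rw [← ZMod.natCast_eq_zero_iff, Nat.cast_sub (Nat.one_le_pow _ _ hq)]
    push_cast
    rw [pow_orderOf_eq_one, sub_self]

theorem num_of_od {q k r : ℕ} (hk : 1 ≤ k) (h : Od q (k + k) r) (hr2 : r ≠ 2) :
    ((q : ZMod r) ^ (k + k) + 1) * ((q : ZMod r) ^ (k + k - 1) - 1) ≠ 0 := by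
  have := Fact.mk h.prime
  have h1 : (q : ZMod r) ^ (k + k) = 1 := by
    have := pow_orderOf_eq_one (q : ZMod r)
    rwa [h.ord] at this
  rw [h1]
  refine mul_ne_zero ?_ ?_
  · intro h2
    have h3 : ((2 : ℕ) : ZMod r) = 0 := by
      push_cast
      linear_combination h2
    have h4 := (ZMod.natCast_eq_zero_iff 2 r).1 h3
    exact hr2 ((Nat.prime_dvd_prime_iff_eq h.prime Nat.prime_two).1 h4)
  · intro h2
    have h3 := orderOf_dvd_of_pow_eq_one (sub_eq_zero.1 h2)
    rw [h.ord] at h3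
    have := Nat.le_of_dvd (by omega) h3
    omega

/-- the socle `PΩ^-_{4k}(q)` -/
theorem two_of_four {p f k : ℕ} (hp : p.Prime) (hf : 1 ≤ f) (hF : Fintype.card F = p ^ f) (hk : 2 ≤ k)
    {R : Subgroup (PSp (k + k) F)} (S : Subgroup R) [S.Normal] [IsSimpleGroup S] (hna : ¬ IsMulCommutative S)
    (hC : Subgroup.centralizer (S : Set R) = ⊥) {g : Grp} (hS : IsNamed g S) (hg : g = .ominus (k + k) (p ^ f)) :
    Two (PSp (k + k) F) R := by
  have hfin : Finite (PSp (k + k) F) := Quotient.finite _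
  by_cases h6 : p = 2 ∧ f * (k + k) = 6
  · obtain ⟨rfl, h6⟩ := h6
    have hf1 : f = 1 := by
      have h7 : f * 4 ≤ f * (k + k) := Nat.mul_le_mul_left f (by omega)
      omega
    subst hf1
    have hk3 : k = 3 := by omega
    subst hk3
    obtain ⟨b, hb, hbf⟩ := blk_seven (F := F) (by rw [hF]; norm_num)
    have hcyc : Cyc 7 R := cyc_six S hna hC (Or.inl hg) hS
    haveI : Fact (Nat.Prime 7) := ⟨by norm_num⟩
    exact two_of_blk hk (by norm_num) (by norm_num) hb hbf fun a b ha hb => hcyc.exists_conj ha hb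
  · obtain ⟨r, hr, hlt⟩ := exists_big (p := p) (f := f) (n := k + k) hp hf (by omega) h6
    have hr2 : r ≠ 2 := by
      have : 1 * 4 ≤ f * (k + k) := Nat.mul_le_mul hf (by omega)
      omega
    have hcyc : Cyc r R := cyc_four S hna hC (Or.inl hg) hS hp hf hr hlt (by omega) (by omega)
    obtain ⟨b, hb, hbf⟩ := blk_of_od (F := F) (k := k) (r := r) (by omega) (by
      rw [hF, two_mul]; exact od_of_prim hr)
    haveI : Fact r.Prime := ⟨hr.prime⟩
    exact two_of_blk hk hr.prime hr2 hb hbf fun a b ha hb => hcyc.exists_conj ha hb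

/-- the geometric class `O^-_{4k}(q)` -/
theorem two_of_minus {p f k : ℕ} (hp : p.Prime) (hf : 1 ≤ f) (hF : Fintype.card F = p ^ f) (hk : 2 ≤ k)
    {R : Subgroup (PSp (k + k) F)} (hR : Cfsg.Agent.H901.SaxSp.InOMinus (k + k) F (pre R)) :
    Two (PSp (k + k) F) R := by
  by_cases h6 : p = 2 ∧ f * (k + k) = 6
  · obtain ⟨rfl, h6⟩ := h6
    have hf1 : f = 1 := by
      have h7 : f * 4 ≤ f * (k + k) := Nat.mul_le_mul_left f (by omega)
      omega
    subst hf1
    have hk3 : k = 3 := by omega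
    subst hk3
    obtain ⟨b, hb, hbf⟩ := blk_seven (F := F) (by rw [hF]; norm_num)
    refine two_minus hk (by norm_num) (by norm_num) ?_ hb hbf hR
    rw [hF]
    decide
  · obtain ⟨r, hr, hlt⟩ := exists_big (p := p) (f := f) (n := k + k) hp hf (by omega) h6
    have hr2 : r ≠ 2 := by
      have : 1 * 4 ≤ f * (k + k) := Nat.mul_le_mul hf (by omega)
      omega
    have hod := od_of_prim hr
    rw [← hF] at hod
    obtain ⟨b, hb, hbf⟩ := blk_of_od (F := F) (k := k) (r := r) (by omega) (by rw [two_mul]; exact hod)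
    exact two_minus hk hr.prime hr2 (num_of_od (by omega) hod hr2) hb hbf hR

theorem od_two_five : Od 2 (2 * 2) 5 := by
  have h1 : orderOf (2 : ZMod 5) = 2 ^ (1 + 1) := orderOf_eq_prime_pow (p := 2) (n := 1) (by decide) (by decide)
  exact ⟨by norm_num, by exact_mod_cast h1, by norm_num⟩

omit [Fintype F] in
theorem hker_sp' {m : ℕ} (x : Matrix.symplecticGroup (Fin m) F) :
    QuotientGroup.mk' (Subgroup.center (Matrix.symplecticGroup (Fin m) F)) x = 1 ↔
      spToGL m F x ∈ scalars (Fin m ⊕ Fin m) F := by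
  rw [show QuotientGroup.mk' (Subgroup.center (Matrix.symplecticGroup (Fin m) F)) x = 1 ↔
    x ∈ Subgroup.center (Matrix.symplecticGroup (Fin m) F) from QuotientGroup.eq_one_iff x]
  constructor
  · intro h
    obtain ⟨a, ha⟩ := (LieClassical.SympCenter.mem_center_iff m x).1 h
    rcases isEmpty_or_nonempty (Fin m ⊕ Fin m) with hι | ⟨⟨i⟩⟩
    · have : spToGL m F x = 1 := Units.ext (by ext i; exact (hι.false i).elim)
      rw [this]
      exact Subgroup.one_mem _
    · have ha0 : a ≠ 0 := by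
        rintro rfl
        rw [zero_smul] at ha
        have h3 : (0 : Matrix (Fin m ⊕ Fin m) (Fin m ⊕ Fin m) F) = 1 := by
          have h1 : x.1 * (x⁻¹).1 = 1 := congrArg Subtype.val (mul_inv_cancel x)
          rw [ha, zero_mul] at h1
          exact h1
        have h4 := congrFun (congrFun h3 i) i
        rw [Matrix.zero_apply, Matrix.one_apply_eq] at h4
        exact zero_ne_one h4
      refine ⟨Units.mk0 a ha0, Units.ext ?_⟩
      ext i j
      have h5 := congrFun (congrFun ha i) j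
      change (Matrix.scalar (Fin m ⊕ Fin m) a) i j = x.1 i j
      rw [h5, Matrix.scalar_apply, Matrix.smul_apply, Matrix.diagonal_apply, Matrix.one_apply]
      split_ifs <;> simp
  · rintro ⟨u, hu⟩
    refine (LieClassical.SympCenter.mem_center_iff m x).2 ⟨(u : F), ?_⟩
    have h1 := congrArg Units.val hu
    ext i j
    have h5 := congrFun (congrFun h1 i) j
    change (Matrix.scalar (Fin m ⊕ Fin m) (u : F)) i j = x.1 i j at h5
    rw [← h5, Matrix.scalar_apply, Matrix.smul_apply, Matrix.diagonal_apply, Matrix.one_apply]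
    split_ifs <;> simp

/-- **Every proper subgroup of `PSp_{2m}(q)`, `m ≥ 3`, `(m, q) ≠ (3, 2)`, has two missing classes.** -/
theorem two_psp (tab : OrderTable.{0}) (hK : ∀ (X : Type) [Group X] [Finite X] [IsSimpleGroup X], Cfsg.IsKnownSimple' X)
    {m : ℕ} (hm : 3 ≤ m) (hex : ¬ (m = 3 ∧ Fintype.card F = 2)) {R : Subgroup (PSp m F)} (hR : R ≠ ⊤) :
    Two (PSp m F) R := by
  have hfin : Finite (PSp m F) := Quotient.finite _
  have nsc := nsc_psp (F := F) hm hex
  obtain ⟨p, hpc⟩ := CharP.exists F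
  obtain ⟨f', hp, hF⟩ := FiniteField.card F p
  obtain ⟨f, hff⟩ : ∃ f : ℕ, f = (f' : ℕ) := ⟨_, rfl⟩
  rw [← hff] at hF
  have hf : 1 ≤ f := by rw [hff]; exact f'.pos
  by_cases h42 : m = 4 ∧ Fintype.card F = 2
  · obtain ⟨rfl, hF2⟩ := h42
    rcases Cfsg.Agent.H503.El.pgap_sp82 tab hK F hF2 R hR with h | h
    · exact Two.of_pgap nsc h
    · have h25 : ¬ 5 ^ 2 ∣ Nat.card R := by
        rcases h with h | h <;> rw [h] <;> norm_num
      have hcyc : Cyc 5 R := cyc_of_card (by norm_num) h25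
      haveI : Fact (Nat.Prime 5) := ⟨by norm_num⟩
      have hod : Od (Fintype.card F) (2 * 2) 5 := by
        rw [hF2]
        exact od_two_five
      obtain ⟨b, hb, hbf⟩ := blk_of_od (F := F) (k := 2) (r := 5) (by norm_num) hod
      exact two_of_blk (k := 2) le_rfl (by norm_num) (by norm_num) hb hbf fun a b ha hb => hcyc.exists_conj ha hb
  rcases Cfsg.Agent.H901.SaxSp.psp_cases (F := F) (m := m) (by omega) (fun h => by omega) hex (fun h => by omega) hR with
    h | ⟨P, hP, -⟩ | h | ⟨h, -⟩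
  · exact Two.of_pgap nsc h
  · have hT : IsNamed (.psp m (Fintype.card F)) (PSp m F) := named_psp (F := F) (n := m) (by omega) (by omega)
    obtain ⟨S, hSn, hSs, hna, hC, ⟨e⟩⟩ := exists_socle
      (spToGL m F) spToGL_injective _ (QuotientGroup.mk'_surjective _) hker_sp' hP
    obtain ⟨g, hg⟩ := exists_named tab (hK S) fun h => hna ⟨⟨h⟩⟩
    refine Cfsg.Agent.H278.El.Asm.res_kill (p := p) (Q := Two (PSp m F) R) hT trivial ?_ ?_ S hC hg e ?_
      (fun h => Two.of_pgap nsc h) ?_ ?_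
    · simp only [surv, List.mem_cons, Grp.psp.injEq, reduceCtorEq, or_false, false_or, List.not_mem_nil, not_or]
      exact ⟨by omega, by omega, by omega, by omega⟩
    · intro g' hg'
      simp only [exc, List.mem_cons, Prod.mk.injEq, reduceCtorEq, and_false, or_false, List.not_mem_nil] at hg'
    · rw [Fintype.card_sum, Fintype.card_fin]
      exact (two_mul m).symm
    · intro hch
      by_cases hfull : Full (PSp m F) R
      · rw [hF] at hT
        obtain ⟨h1, h2⟩ := full_psp hT hp hf hm (fun h => by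
            obtain ⟨rfl, h⟩ := h
            have h3 : f * 6 ≤ f * (2 * m) := Nat.mul_le_mul_left f (by omega)
            have h4 : f = 1 := by omega
            subst h4
            exact hex ⟨by omega, by rw [hF]; norm_num⟩) (fun h => by
            obtain ⟨rfl, h⟩ := h
            have h3 : f * 4 ≤ f * (2 * (m - 1)) := Nat.mul_le_mul_left f (by omega)
            have h4 : f = 1 := by omega
            subst h4
            exact h42 ⟨by omega, by rw [hF]; norm_num⟩) hR hfull S hna hC hg hch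
        obtain ⟨k, hk⟩ : ∃ k, m = k + k := ⟨m / 2, by omega⟩
        subst hk
        exact two_of_four hp hf hF (by omega) S hna hC hg h2
      · refine Two.of_pgap nsc ?_
        unfold Full at hfull
        push Not at hfull
        obtain ⟨r, h1, h2, h3⟩ := hfull
        exact ⟨r, h1, h2, h3⟩
    · intro s hs hsp hch
      rcases Cfsg.Agent.H884.Cx.cross_row (p := p) hp hT trivial ⟨f, hF⟩ (F := F) (ι := Fin m ⊕ Fin m) (by
          rw [Fintype.card_sum, Fintype.card_fin]; exact (two_mul m).symm) S hna hC hP.perfect e hs hsp hg hch with h | h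
      · exact Two.of_pgap nsc h
      · exfalso
        simp only [Cfsg.Agent.H884.Cx.excP, List.mem_cons, Prod.mk.injEq, Grp.psp.injEq, reduceCtorEq, and_false,
          or_false, false_or, List.not_mem_nil] at h
        omega
  · obtain ⟨⟨k, rfl⟩, hodd, hrest⟩ := h
    exact two_of_minus hp hf hF (by omega) ⟨⟨k, rfl⟩, hodd, hrest⟩
  · omega

/-- the row -/
theorem row_psp_of (tab : OrderTable.{0})
    (hK : ∀ (X : Type) [Group X] [Finite X] [IsSimpleGroup X], Cfsg.IsKnownSimple' X)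
    {m : ℕ} (hm : 3 ≤ m) (hex : ¬ (m = 3 ∧ Fintype.card F = 2)) : Row (PSp m F) :=
  fun _ hM => Or.inl (two_psp tab hK hm hex hM.1)

end

end Cfsg.Agent.H388.Der
end

private theorem dce_c1cf3c28d0b4 : _root_.True := by
  try have : _root_.True := by simp only [_root_.Cfsg.Agent.H278.El.SporNum.exc.eq_1]
  try have : _root_.True := by simp only [_root_.Cfsg.Agent.H388.Der.d₂.eq_1]
  try have : _root_.True := by simp only [_root_.Cfsg.Agent.H388.Der.tPerm.eq_1]
  try have : _root_.True := by simp only [_root_.Cfsg.Agent.H884.Cx.excP.eq_1]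
  try have : _root_.True := by simp only [_root_.Cfsg.Agent.H388.Der.permMat.eq_1]
  try have : _root_.True := by simp only [_root_.Cfsg.Agent.H388.Der.d₁.eq_1]
  try have : _root_.True := by simp only [_root_.Cfsg.Agent.H278.El.AltNum.surv.eq_1]
  exact _root_.True.intro
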